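import Groth.Agent.Etbase.PullConn
import Groth.Agent.CalgC.SepDisj

/-!
# Sections of an etale sheaf over a field and over an extension in which it is separably closed
-/

set_option autoImplicit false

open CategoryTheory CategoryTheory.Limits AlgebraicGeometry Opposite TensorProduct

universe u

namespace K815.H0Field

/-- `L` separably closed in `L'`: the geometric fibres of `Spec L' → Spec L` are irreducible. -/
theorem irreducibleSpace_pullback {L L' : Type u} [Field L] [Field L'] [Algebra L L']
    (h : ∀ x : L', IsSeparable L x → x ∈ Set.range (algebraMap L L'))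
    (Ω : Type u) [Field Ω] (s : Spec (CommRingCat.of Ω) ⟶ Spec (CommRingCat.of L)) :
    IrreducibleSpace ↥(pullback (Spec.map (CommRingCat.ofHom (algebraMap L L'))) s) := by
  obtain ⟨φ, rfl⟩ := Spec.map_surjective s
  let _ : Algebra L Ω := φ.hom.toAlgebra
  have h1 : IrreducibleSpace (PrimeSpectrum (Ω ⊗[L] L')) :=
    (PrimeSpectrum.irreducibleSpace_iff_isPrime_nilradical).2
      (Groth.Agent.CalgC.SepDisj.isPrime_nilradical_tensorProduct Ω h)
  have e0 : φ = CommRingCat.ofHom (algebraMap L Ω) := rfl
  rw [e0]
  let e : pullback (Spec.map (CommRingCat.ofHom (algebraMap L L')))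
      (Spec.map (CommRingCat.ofHom (algebraMap L Ω))) ≅ Spec (CommRingCat.of (Ω ⊗[L] L')) :=
    pullbackSymmetry _ _ ≪≫ pullbackSpecIso L Ω L'
  have h2 : IrreducibleSpace ↥(Spec (CommRingCat.of (Ω ⊗[L] L'))) := h1
  exact e.inv.homeomorph.surjective.irreducibleSpace e.inv.homeomorph.continuous

/-- sections of an etale sheaf over a field and over an extension in which it is separably
closed -/
theorem bijective_unit {L L' : Type u} [Field L] [Field L'] [Algebra L L']
    (h : ∀ x : L', IsSeparable L x → x ∈ Set.range (algebraMap L L'))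
    (M : EtCoh.Ab (Spec (CommRingCat.of L))) (U : (Spec (CommRingCat.of L)).Etale) :
    Function.Bijective (((EtCoh.pullPushAdj
      (Spec.map (CommRingCat.ofHom (algebraMap L L')))).unit.app M).hom.app (Opposite.op U)) := by
  have hfl : Flat (Spec.map (CommRingCat.ofHom (algebraMap L L'))) := by
    rw [AlgebraicGeometry.Flat.SpecMap_iff]
    exact RingHom.flat_algebraMap_iff.2 inferInstance
  exact Groth.Agent.Etbase.PullConn.unitSect_bijective
    (Spec.map (CommRingCat.ofHom (algebraMap L L')))
    (fun Ω _ _ s => @IrreducibleSpace.connectedSpace _ _ (irreducibleSpace_pullback h Ω s)) M U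

/-- `Γ(Spec L, M) → Γ(Spec L', M|L')` is bijective for every abelian etale sheaf `M` when `L` is
separably closed in `L'` -/
theorem bijective_unit_top {L L' : Type u} [Field L] [Field L'] [Algebra L L']
    (h : ∀ x : L', IsSeparable L x → x ∈ Set.range (algebraMap L L'))
    (M : EtCoh.Ab (Spec (CommRingCat.of L))) :
    Function.Bijective (((EtCoh.pullPushAdj
      (Spec.map (CommRingCat.ofHom (algebraMap L L')))).unit.app M).hom.app
        (Opposite.op (EtCoh.top (Spec (CommRingCat.of L))))) :=
  bijective_unit h M _

end K815.H0Field
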